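import Cfsg.Agent.Omega.KL.TwoG.Ex
import Cfsg.Agent.Omega.KL.TwoZ.Inp

/-!
# From `Out` to a contradiction (helper391's `KL/TwoZ/Inp` for the frame `TwoG.Fr`)

* `Fr.preQ`, `Fr.inpQ`, `Fr.out_false`; **`Fr.false_of`** : the frame `Fr T V Z` is contradictory.
-/

set_option autoImplicit false
set_option linter.unusedSectionVars false

namespace Cfsg.Agent.Omega.KL.TwoG

open Subgroup Cfsg Cfsg.Agent.Omega.MinPar
open Cfsg.Agent.ZN (o2 zc)
open Cfsg.Agent.ClassTwoFusion.Quad Cfsg.Agent.Omega.ML.MinFrame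
open Cfsg.Agent.Omega.OM.KTwo (ne_add_one eq_add_one add_one_add_one le_normalizer_V le_V exists_mul_of_mem_sup)
open Cfsg.Agent.MinSimple.MinParabolic (IsMinPar)
open Cfsg.Agent.Omega.NoFF.Basic (conj_conj mem_conj conj_le_iff comm_symm comm_mono Z_le_V V_le)
open Cfsg.Agent.ZN.ChoiceSit (Syl exists_syl syl_conj o2_le_syl syl_not_dvd)
open Cfsg.Agent.MinSimple.VModule (mem_zc zc_le normalizer_le_normalizer_zc le_o2
  o2_isPGroup o2_le zc_le_centralizer le_centralizer_zc le_normalizer_o2)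
open Cfsg.Agent.Omega.TC.LemZ (card_eq le_norm_of norm_cent norm_inf)
open Cfsg.Agent.Omega.KL.StarQ (InpQ)
open Cfsg.Agent.Omega.KL.TwoS (Mx relIndex_anti relIndex_mono)
open Cfsg.Agent.Omega.KL.TwoZ (CC QQ NH NN WW UU HH V_le_of norm_V norm_o2_of sq_conj sq_V MM PreQ actX)
open scoped Pointwise

universe u v

namespace Fr

variable {G : Type u} [Group G] [Finite G] {T : Subgroup G} {V Z : Fin 2 → Subgroup G}

theorem preQ (hML : ML.Final.MLK.{u, u}) (D : Fr T V Z) {i : Fin 2} {X B : Subgroup G} (hK : IsKGroup (CC Z i))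
    (O : Out T V Z i X B) :
    letI := actX O.CX
    PreQ (T.subgroupOf (CC Z i)) (B.subgroupOf (CC Z i)) ((Z (i + 1)).subgroupOf X) ((V i).subgroupOf X) := by
  let := actX O.CX
  change PreQ (T.subgroupOf (CC Z i)) (B.subgroupOf (CC Z i)) ((Z (i + 1)).subgroupOf X) ((V i).subgroupOf X)
  have hBC : B ≤ CC Z i := O.BO.trans (D.O_le_T.trans (D.T_le_C i))
  have hZN : Z (i + 1) ≤ NN Z i := le_V _ _
  have hZX : Z (i + 1) ≤ X := hZN.trans O.NX
  have hsm : ∀ (c : CC Z i) (m : X), ((c • m : X) : G) = c * m * (c : G)⁻¹ := fun _ _ => rfl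
  have hfix : ∀ (c : CC Z i) (m : X), c • m = m ↔ (m : G) * c = c * m := by
    intro c m
    rw [Subtype.ext_iff, hsm, mul_inv_eq_iff_eq_mul, eq_comm]
  have hnrm : ∀ (Y : Subgroup G) (c : CC Z i), (c : G) ∈ normalizer (Y : Set G) → ∀ m ∈ Y.subgroupOf X,
      c • m ∈ Y.subgroupOf X := by
    intro Y c hc m hm
    refine mem_subgroupOf.2 ?_
    rw [hsm]
    exact (mem_normalizer_iff.1 hc _).1 (mem_subgroupOf.1 hm)
  have hfxr : ∀ Y : Subgroup G, Y ≤ X → fxr (CC Z i) (Y.subgroupOf X) = (centralizer (Y : Set G)).subgroupOf (CC Z i) := by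
    intro Y hY
    ext c
    rw [mem_subgroupOf, mem_centralizer_iff]
    constructor
    · intro h y hy
      exact (hfix c ⟨y, hY hy⟩).1 (h _ (mem_subgroupOf.2 hy))
    · intro h y hy
      exact (hfix c y).2 (h _ (mem_subgroupOf.1 hy))
  have hfxt : fxr (CC Z i) (⊤ : Subgroup X) = (centralizer (X : Set G)).subgroupOf (CC Z i) := by
    rw [← hfxr X le_rfl, subgroupOf_self]
  have hnT : ∀ g : CC Z i, g ∈ normalizer ((T.subgroupOf (CC Z i) : Subgroup (CC Z i)) : Set (CC Z i)) →
      (g : G) ∈ CC Z i ⊓ normalizer (T : Set G) := by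
    intro g hg
    refine mem_inf.2 ⟨g.2, ?_⟩
    rw [mem_normalizer_iff]
    intro t
    constructor
    · intro ht
      exact (mem_normalizer_iff.1 hg ⟨t, D.T_le_C i ht⟩).1 ht
    · intro ht
      have h1 : (g : G)⁻¹ * ((g : G) * t * (g : G)⁻¹) * (g : G)⁻¹⁻¹ ∈ T :=
        (mem_normalizer_iff.1 (inv_mem hg) ⟨(g : G) * t * (g : G)⁻¹, D.T_le_C i ht⟩).1 ht
      have e : (g : G)⁻¹ * ((g : G) * t * (g : G)⁻¹) * (g : G)⁻¹⁻¹ = t := by group
      rwa [e] at h1
  have hcv : ∀ A : Subgroup (CC Z i), (cv X (A : Set (CC Z i))).index =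
      (centralizer ((A.map (CC Z i).subtype : Subgroup G) : Set G)).relIndex X := by
    intro A
    change _ = ((centralizer ((A.map (CC Z i).subtype : Subgroup G) : Set G)).subgroupOf X).index
    congr 1
    ext m
    rw [mem_subgroupOf, mem_centralizer_iff]
    constructor
    · rintro hm _ ⟨a, ha, rfl⟩
      exact ((hfix a m).1 (hm a ha)).symm
    · intro hm a ha
      exact (hfix a m).2 (hm a ⟨a, ha, rfl⟩).symm
  refine ⟨?_, ?_, ?_, ?_, ?_, ?_, ?_, ?_, ?_, ?_, ?_, ?_, ?_, ?_, ?_, hK⟩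
  · intro m
    apply Subtype.ext
    have h := O.sqX m m.2
    rw [pow_two] at h
    exact h
  · exact D.T_isPGroup.comap_of_injective (CC Z i).subtype (CC Z i).subtype_injective
  · exact syl_not_dvd (D.syl i)
  · intro z hz t ht
    rw [hfix]
    exact mem_centralizer_iff.1 (D.T_le_C (i + 1) (mem_subgroupOf.1 ht)) z (mem_subgroupOf.1 hz)
  · exact fun g hg => hnrm _ g (D.nT i (hnT g hg)).1
  · exact fun g hg => hnrm _ g (D.nT i (hnT g hg)).2
  · intro w hw hwT g
    rw [hfix]
    have h1 : (w : G) ∈ centralizer (T : Set G) := by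
      rw [mem_centralizer_iff]
      intro t ht
      exact ((hfix ⟨t, D.T_le_C i ht⟩ w).1 (hwT _ (mem_subgroupOf.2 ht))).symm
    exact mem_centralizer_iff.1 g.2 w (D.cV i w (mem_subgroupOf.1 hw) h1)
  · intro P hP
    have hR := Plug.minPar_map (D.T_le_C i) hP
    have hRC : P.map (CC Z i).subtype ≤ CC Z i := map_subtype_le P
    by_cases hRm : P.map (CC Z i).subtype ≤ CC Z (i + 1)
    · left
      intro z hz p hp
      rw [hfix]
      exact mem_centralizer_iff.1 (hRm (mem_map_of_mem (CC Z i).subtype hp)) z (mem_subgroupOf.1 hz)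
    · right
      intro g hg hog w hw
      have h1 := D.odd (i + 1) i (ne_add_one i).symm _ hR hRC hRm g (mem_map_of_mem (CC Z i).subtype hg)
        (by rwa [orderOf_coe])
      rw [hfix]
      exact mem_centralizer_iff.1 h1 w (mem_subgroupOf.1 hw)
  · intro a ha
    apply Subtype.ext
    have h := O.sqB a (mem_subgroupOf.1 ha)
    rw [pow_two] at h
    exact h
  · refine Plug.sub_o2 (S := DD Z) (fun c => ?_) O.BO
    rw [hfxr _ hZX, mem_subgroupOf]
    constructor
    · exact fun h => mem_D c.2 h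
    · exact fun h => D_le (i + 1) h
  · refine Plug.sub_o2 (S := HH T V i) (fun c => ?_) O.BH
    rw [hfxr (V i) O.VX, ← subgroupOf_sup (D.cent_V_le i) (D.T_le_C i), mem_subgroupOf]
  · intro a ha hc m
    have h1 : (a : G) ∈ centralizer (NN Z i : Set G) := by
      have h2 : NN Z i ≤ centralizer ({(a : G)} : Set G) := by
        refine V_le fun c hc' z hz => ?_
        rw [mem_conj] at hz
        rw [mem_centralizer_singleton_iff]
        have h3 := hc ⟨c, hc'⟩ ⟨c⁻¹ * z * c, hZX hz⟩ (mem_subgroupOf.2 hz)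
        rw [hfix] at h3
        have e : (((⟨c, hc'⟩ : CC Z i) • (⟨c⁻¹ * z * c, hZX hz⟩ : X) : X) : G) = z := by
          rw [hsm]
          change c * (c⁻¹ * z * c) * c⁻¹ = z
          group
        rw [e] at h3
        exact h3
      rw [mem_centralizer_iff]
      exact fun x hx => mem_centralizer_singleton_iff.1 (h2 hx)
    rw [hfix]
    exact mem_centralizer_iff.1 (O.ker ⟨mem_subgroupOf.1 ha, h1⟩) m m.2
  · by_contra hc
    push Not at hc
    apply O.mv
    intro b hb
    rw [mem_centralizer_iff]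
    intro x hx
    have h1 := hc ⟨b, hBC hb⟩ (mem_subgroupOf.2 hb) ⟨x, O.NX hx⟩
    exact (hfix _ _).1 h1
  · intro A hA
    have hAB : A.map (CC Z i).subtype ≤ B := by
      rintro _ ⟨a, ha, rfl⟩
      exact mem_subgroupOf.1 (hA ha)
    have h1 := D.no_N hML hK (hAB.trans O.BO) (fun b hb => O.sqB b (hAB hb))
    have e1 : (fxr (CC Z i) (⊤ : Subgroup X)).relIndex A =
        (centralizer (X : Set G)).relIndex (A.map (CC Z i).subtype) := by
      rw [hfxt, subgroupOf, relIndex_comap]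
    rw [e1, hcv]
    have h2 : (centralizer (X : Set G)).relIndex (A.map (CC Z i).subtype) ≤
        (centralizer (NN Z i : Set G)).relIndex (A.map (CC Z i).subtype) := by
      rw [← inf_relIndex_left (A.map (CC Z i).subtype) (centralizer (NN Z i : Set G)),
        ← inf_relIndex_left (A.map (CC Z i).subtype) (centralizer (X : Set G))]
      exact relIndex_anti (le_inf inf_le_left ((inf_le_inf_right _ hAB).trans O.ker))
    exact h2.trans (h1.trans (relIndex_mono O.NX))
  · rw [hcv, hfxt, relIndex_subgroupOf hBC]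
    have e : (B.subgroupOf (CC Z i)).map (CC Z i).subtype = B := by
      rw [subgroupOf_map_subtype, inf_eq_left.2 hBC]
    rw [e]
    exact O.ex.trans (relIndex_anti (centralizer_le O.NX))

/-- **the input of THEOREM KL*(q)** -/
theorem inpQ (hML : ML.Final.MLK.{u, u}) (D : Fr T V Z) {i : Fin 2} {X B : Subgroup G} (hK : IsKGroup (CC Z i))
    (O : Out T V Z i X B) :
    ∃ (H M : Type u) (_ : Group H) (_ : Finite H) (_ : Group M) (_ : Finite M) (_ : MulDistribMulAction H M)
      (T' A' : Subgroup H) (Z' Y' : Subgroup M), InpQ T' A' Z' Y' := by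
  let := actX O.CX
  obtain ⟨H, _, _, _, T', A', h⟩ := (D.preQ hML hK O).inp
  exact ⟨H, X, inferInstance, inferInstance, inferInstance, inferInstance, inferInstance, T', A', _, _, h⟩

/-- **EX + KL*(q)** -/
theorem out_false (hML : ML.Final.MLK.{u, u}) (hE : ML.Ex.Two.Ext.{u, u}) (D : Fr T V Z) {i : Fin 2}
    {X B : Subgroup G} (hK : IsKGroup (CC Z i)) (O : Out T V Z i X B) : False := by
  obtain ⟨H, M, _, _, _, _, _, T', A', Z', Y', h⟩ := D.inpQ hML hK O
  exact h.false_of hML hE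

/-- **the frame is contradictory** -/
theorem false_of (hML : ML.Final.MLK.{u, u}) (hE : ML.Ex.Two.Ext.{u, u}) (D : Fr T V Z)
    (hK : ∀ i, IsKGroup (CC Z i)) : False := by
  obtain ⟨i, X, B, O⟩ := D.ex hML hK
  exact D.out_false hML hE (hK i) O

end Fr

end Cfsg.Agent.Omega.KL.TwoG
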