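import Cfsg.Agent.Omega.KL.TwoZ.Fr

/-!
# Two centres with a generation hypothesis (helper764 #23526, (4F), `k = 2`)

`KL/TwoZ` (helper391) for movers which need not normalise `V i`: `T` is a Sylow 2-subgroup of `C_i = C_G(Z i)`,
`D = C_0 ∩ C_1`, `O = O₂(D)` centralises `V i ≥ Z i`, `⟨C_0, C_1⟩` is nonlocal, `V (i+1) ≤ N_i = ⟨Z (i+1) ^ C_i⟩`, and
**`C_{i+1}` is generated by `D` and `C_{i+1} ∩ N(V i)`** (`gen`; in (4F) the normaliser of `W i` in `C_{i+1}` induces `A₇`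
on `W i`).  `Z i = ⟨z_i⟩`, `V i = Z_i` of order 4.

* `Fr` : the frame.
-/

set_option autoImplicit false
set_option linter.unusedSectionVars false

namespace Cfsg.Agent.Omega.KL.TwoG

open Subgroup Cfsg Cfsg.Agent.Omega.MinPar
open Cfsg.Agent.ZN (o2 zc)
open Cfsg.Agent.Omega.OM.KTwo (ne_add_one eq_add_one add_one_add_one le_normalizer_V le_V exists_mul_of_mem_sup)
open Cfsg.Agent.MinSimple.MinParabolic (IsMinPar)
open Cfsg.Agent.Omega.NoFF.Basic (conj_conj mem_conj conj_le_iff comm_symm comm_mono Z_le_V V_le)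
open Cfsg.Agent.Omega.NOThreeL.Pair (conj_eq_of_mem conj_le_normalizer)
open Cfsg.Agent.Omega.NoFF.ThmJFam (card_sup_inf card_conj)
open Cfsg.Agent.ZN.ChoiceSit (Syl exists_syl syl_conj o2_le_syl)
open Cfsg.Agent.MinSimple.VModule (mem_zc zc_le normalizer_le_normalizer_zc le_o2
  o2_isPGroup o2_le zc_le_centralizer le_centralizer_zc le_normalizer_o2)
open Cfsg.Agent.Omega.TC.LemZ (card_eq le_norm_of norm_cent norm_inf)
open Cfsg.Agent.Omega.KL.TwoS (Mx comm_of_sq sq_sup relIndex_le_of_sup sup_of_relIndex_le)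
open Cfsg.Agent.Omega.KL.TwoZ (CC QQ NH NN WW UU HH V_le_of norm_V norm_o2_of sq_conj sq_V)
open scoped Pointwise

universe u

variable {G : Type u} [Group G]

/-- `D = C_0 ∩ C_1` -/
abbrev DD (Z : Fin 2 → Subgroup G) : Subgroup G := CC Z 0 ⊓ CC Z 1

/-- **the frame** -/
structure Fr [Finite G] (T : Subgroup G) (V Z : Fin 2 → Subgroup G) : Prop where
  char2 : ∀ i, centralizer (Z i : Set G) ⊓ centralizer (o2 (centralizer (Z i : Set G)) : Set G) ≤
    o2 (centralizer (Z i : Set G))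
  sqV : ∀ i, ∀ x ∈ V i, x ^ 2 = 1
  ZV : ∀ i, Z i ≤ V i
  ne : ∀ i, Z i ≠ ⊥
  syl : ∀ i, Syl T (centralizer (Z i : Set G))
  nT : ∀ i, centralizer (Z i : Set G) ⊓ normalizer (T : Set G) ≤
    normalizer (Z (i + 1) : Set G) ⊓ normalizer (V i : Set G)
  nV : ∀ i, T ≤ normalizer (V i : Set G)
  cV : ∀ i, ∀ w ∈ V i, w ∈ centralizer (T : Set G) → w ∈ Z i
  OV : ∀ i, o2 (centralizer (Z 0 : Set G) ⊓ centralizer (Z 1 : Set G)) ≤ centralizer (V i : Set G)
  VN : ∀ i, V (i + 1) ≤ NoFF.Basic.V (Z (i + 1)) (centralizer (Z i : Set G))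
  sti : ∀ i, ∀ w ∈ Z (i + 1), w ≠ 1 →
    centralizer (Z i : Set G) ⊓ centralizer ({w} : Set G) ≤ normalizer (Z (i + 1) : Set G)
  odd : ∀ i j, i ≠ j → ∀ R : Subgroup G, IsMinPar T R → R ≤ centralizer (Z j : Set G) →
    ¬ R ≤ centralizer (Z i : Set G) → ∀ g ∈ R, Odd (orderOf g) → g ∈ centralizer (V j : Set G)
  gen : ∀ i, ∀ K : Subgroup G, centralizer (Z 0 : Set G) ⊓ centralizer (Z 1 : Set G) ≤ K →
    centralizer (Z (i + 1) : Set G) ⊓ normalizer (V i : Set G) ≤ K → centralizer (Z (i + 1) : Set G) ≤ K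
  nonloc : NonLoc (centralizer (Z 0 : Set G)) (centralizer (Z 1 : Set G))

namespace Fr

variable [Finite G] {T : Subgroup G} {V Z : Fin 2 → Subgroup G} (D : Fr T V Z)

include D

/-! ### Easy facts -/

theorem T_isPGroup : IsPGroup 2 T := (D.syl 0).2.1

theorem T_le_C (i : Fin 2) : T ≤ CC Z i := (D.syl i).1

theorem Z_sq (i : Fin 2) : ∀ z ∈ Z i, z ^ 2 = 1 := fun z hz => D.sqV i z (D.ZV i hz)

theorem Q_le_T (i : Fin 2) : QQ Z i ≤ T := o2_le_syl (D.syl i)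

theorem Z_le_T (i : Fin 2) : Z i ≤ T := by
  have h1 : Z i ≤ CC Z i := comm_of_sq (D.Z_sq i)
  have h2 : Z i ≤ centralizer (QQ Z i : Set G) := comm_symm (o2_le _)
  exact (le_inf h1 h2).trans ((D.char2 i).trans (D.Q_le_T i))

theorem comm_Z (i : Fin 2) : T ≤ centralizer (Z i : Set G) := D.T_le_C i

theorem Z_cent_T (i : Fin 2) : Z i ≤ centralizer (T : Set G) := comm_symm (D.T_le_C i)

theorem Z_le_Q (i j : Fin 2) : Z j ≤ QQ Z i := by
  refine le_trans (le_inf ((D.Z_le_T j).trans (D.T_le_C i)) ?_) (D.char2 i)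
  exact (D.Z_cent_T j).trans (centralizer_le (D.Q_le_T i))

omit D in
theorem D_le (i : Fin 2) : DD Z ≤ CC Z i := by
  rcases Fin.exists_fin_two.1 ⟨i, rfl⟩ with h | h
  · rw [h]; exact inf_le_left
  · rw [h]; exact inf_le_right

omit D in
theorem le_D {i : Fin 2} {H : Subgroup G} (h : H ≤ CC Z i) (h' : H ≤ CC Z (i + 1)) : H ≤ DD Z := by
  rcases Fin.exists_fin_two.1 ⟨i, rfl⟩ with e | e
  · subst e; exact le_inf h h'
  · subst e; exact le_inf h' h

omit D in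
theorem mem_D {i : Fin 2} {c : G} (h : c ∈ CC Z i) (h' : c ∈ CC Z (i + 1)) : c ∈ DD Z := by
  rcases Fin.exists_fin_two.1 ⟨i, rfl⟩ with e | e
  · subst e; exact ⟨h, h'⟩
  · subst e; exact ⟨h', h⟩

theorem T_le_D : T ≤ DD Z := le_inf (D.T_le_C 0) (D.T_le_C 1)

theorem syl_D : Syl T (DD Z) :=
  ⟨D.T_le_D, D.T_isPGroup, fun R hR hR2 hTR => (D.syl 0).2.2 R (hR.trans (D_le 0)) hR2 hTR⟩

theorem O_le_T : o2 (DD Z) ≤ T := o2_le_syl D.syl_D

theorem Q_le_O (i : Fin 2) : QQ Z i ≤ o2 (DD Z) :=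
  le_o2 ((D.Q_le_T i).trans D.T_le_D) (o2_isPGroup _) ((D_le i).trans (le_normalizer_o2 _))

theorem VQ (i : Fin 2) : V i ≤ QQ Z i := by
  have h1 : V i ≤ CC Z i := (comm_of_sq (D.sqV i)).trans (centralizer_le (D.ZV i))
  have h2 : V i ≤ centralizer (QQ Z i : Set G) := comm_symm ((D.Q_le_O i).trans (D.OV i))
  exact (le_inf h1 h2).trans (D.char2 i)

theorem VC (i : Fin 2) : ∀ c ∈ centralizer (Z i : Set G), MulAut.conj c • V i ≤ centralizer (V i : Set G) := by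
  intro c hc
  have e1 : MulAut.conj c • QQ Z i = QQ Z i := conj_eq_of_mem (le_normalizer_o2 _ hc)
  have h1 : MulAut.conj c • V i ≤ QQ Z i := by rw [← e1]; exact conj_le_iff.2 (D.VQ i)
  exact (h1.trans (D.Q_le_O i)).trans (D.OV i)

theorem nonloc' {i : Fin 2} {W : Subgroup G} (hW : IsPGroup 2 W) (h : CC Z i ≤ normalizer (W : Set G))
    (h' : CC Z (i + 1) ≤ normalizer (W : Set G)) : W = ⊥ := by
  rcases Fin.exists_fin_two.1 ⟨i, rfl⟩ with e | e
  · subst e; exact D.nonloc W hW h h'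
  · subst e; exact D.nonloc W hW h' h

/-- the normaliser of `Z (i+1)` in `C_i` normalises `D` -/
theorem norm_D (i : Fin 2) : CC Z i ⊓ normalizer (Z (i + 1) : Set G) ≤
    normalizer ((DD Z : Subgroup G) : Set G) := by
  refine le_norm_of fun g hg d hd => mem_D (i := i) ?_ ?_
  · exact mul_mem (mul_mem hg.1 (D_le i hd)) (inv_mem hg.1)
  · exact (mem_normalizer_iff.1 (norm_cent (A := normalizer (Z (i + 1) : Set G)) le_rfl hg.2) d).1 (D_le _ hd)

/-! ### `N_i` -/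

theorem N_le (i : Fin 2) {X : Subgroup G} (hX : CC Z i ≤ normalizer (X : Set G)) (h : Z (i + 1) ≤ X) : NN Z i ≤ X :=
  V_le_of h hX

theorem N_le_Q (i : Fin 2) : NN Z i ≤ QQ Z i := V_le_of (D.Z_le_Q i (i + 1)) (le_normalizer_o2 _)

theorem N_le_cent_Q (i : Fin 2) : NN Z i ≤ centralizer (QQ Z i : Set G) :=
  V_le_of ((D.Z_cent_T (i + 1)).trans (centralizer_le (D.Q_le_T i))) (norm_cent (le_normalizer_o2 _))

theorem Q_le_cent_N (i : Fin 2) : QQ Z i ≤ centralizer (NN Z i : Set G) := comm_symm (D.N_le_cent_Q i)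

theorem N_comm (i : Fin 2) : NN Z i ≤ centralizer (NN Z i : Set G) := (D.N_le_Q i).trans (D.Q_le_cent_N i)

theorem N_le_O (i : Fin 2) : NN Z i ≤ o2 (DD Z) := (D.N_le_Q i).trans (D.Q_le_O i)

theorem N_le_C (i j : Fin 2) : NN Z i ≤ CC Z j := ((D.N_le_Q i).trans (D.Q_le_T i)).trans (D.T_le_C j)

theorem N_sq (i : Fin 2) : ∀ x ∈ NN Z i, x ^ 2 = 1 := sq_V (D.Z_sq (i + 1)) (D.N_comm i)

/-- a normal subgroup of `C_i` which centralises `Z (i+1)` centralises `N_i` -/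
theorem cent_N_of_le {i : Fin 2} {X : Subgroup G} (hn : CC Z i ≤ normalizer (X : Set G)) (hX : X ≤ CC Z (i + 1)) :
    X ≤ centralizer (NN Z i : Set G) :=
  comm_symm (V_le_of (comm_symm hX) (norm_cent hn))

theorem cent_N_le (i : Fin 2) : centralizer (NN Z i : Set G) ≤ CC Z (i + 1) := centralizer_le (le_V _ _)

/-- `C_O(N_i) = Q_i` -/
theorem O_inf_le (i : Fin 2) : o2 (DD Z) ⊓ centralizer (NN Z i : Set G) ≤ QQ Z i := by
  have h1 := GenTool.o2_inf_le (L := CC Z i) (N := CC Z i ⊓ centralizer (NN Z i : Set G))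
    (R := DD Z) inf_le_left
    (fun g hg x hx => ⟨(CC Z i).mul_mem ((CC Z i).mul_mem hg hx.1) ((CC Z i).inv_mem hg),
      (mem_normalizer_iff.1 (norm_cent (le_normalizer_V (Z (i + 1)) (CC Z i)) hg) x).1 hx.2⟩)
    (fun x hx => mem_D hx.1 (D.cent_N_le i hx.2))
  refine le_trans ?_ h1
  exact le_inf inf_le_left (le_inf ((inf_le_left.trans D.O_le_T).trans (D.T_le_C i)) inf_le_right)

theorem exists_move (i : Fin 2) : ¬ CC Z i ≤ CC Z (i + 1) := by
  intro h1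
  have h2 := D.nonloc' (i := i) (W := QQ Z (i + 1)) (o2_isPGroup _) (h1.trans (le_normalizer_o2 _))
    (le_normalizer_o2 _)
  have h3 := D.Z_le_Q (i + 1) i
  rw [h2, le_bot_iff] at h3
  exact D.ne i h3

/-- `V (i+1) ≤ N_i` -/
theorem V_le_N (i : Fin 2) : V (i + 1) ≤ NN Z i := D.VN i

/-! ### `W_i`, `U_i` -/

theorem cent_V_le (i : Fin 2) : centralizer (V i : Set G) ≤ CC Z i := centralizer_le (D.ZV i)

theorem U_le_N (i : Fin 2) : UU V Z i ≤ NN Z i :=
  V_le_of (le_V _ _) ((D.cent_V_le i).trans (le_normalizer_V _ _))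

theorem U_sq (i : Fin 2) : ∀ x ∈ UU V Z i, x ^ 2 = 1 := fun x hx => D.N_sq i x (D.U_le_N i hx)

theorem norm_U (i : Fin 2) : normalizer (V i : Set G) ⊓ normalizer (Z (i + 1) : Set G) ≤
    normalizer (UU V Z i : Set G) :=
  norm_V inf_le_right (inf_le_left.trans (norm_cent (A := normalizer (V i : Set G)) le_rfl))

theorem H_le_C (i : Fin 2) : HH T V i ≤ CC Z i := sup_le (D.cent_V_le i) (D.T_le_C i)

theorem T_le_H (i : Fin 2) : T ≤ HH T V i := le_sup_right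

theorem H_le_norm_U (i : Fin 2) : HH T V i ≤ normalizer (UU V Z i : Set G) :=
  sup_le (le_normalizer_V _ _)
    ((le_inf (D.nV i) ((D.T_le_C _).trans (centralizer_le_normalizer _))).trans (D.norm_U i))

theorem NH_H (i : Fin 2) : NH Z i (HH T V i) = UU V Z i := by
  apply le_antisymm
  · exact V_le_of (le_V _ _) (D.H_le_norm_U i)
  · exact V_le_of (le_V _ _) (le_sup_left.trans (le_normalizer_V _ _))

theorem W_le_Q (i : Fin 2) : WW V Z i ≤ QQ Z i := V_le_of (D.VQ i) (le_normalizer_o2 _)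

theorem W_comm (i : Fin 2) : WW V Z i ≤ centralizer (WW V Z i : Set G) := by
  refine V_le fun c hc => comm_symm (V_le fun d hd => ?_)
  have h1 := D.VC i (c⁻¹ * d) (mul_mem (inv_mem hc) hd)
  have h2 : MulAut.conj c • (MulAut.conj (c⁻¹ * d) • V i) ≤ MulAut.conj c • centralizer (V i : Set G) :=
    conj_le_iff.2 h1
  rw [conj_conj, mul_inv_cancel_left, NoFF.ThmJFam.conj_cent] at h2
  exact h2

theorem W_sq (i : Fin 2) : ∀ x ∈ WW V Z i, x ^ 2 = 1 := sq_V (D.sqV i) (D.W_comm i)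

end Fr

end Cfsg.Agent.Omega.KL.TwoG
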